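import Cfsg.Agent.EqLemmas
import Cfsg.Prelude.Def_Classical
import Cfsg.Prelude.Def_CaseTheorems
import Mathlib.GroupTheory.GroupAction.MultipleTransitivity
import Mathlib.GroupTheory.Sylow
import Mathlib.GroupTheory.SpecificGroups.Alternating
import Mathlib.LinearAlgebra.Matrix.ProjectiveSpecialLinearGroup

/-!
# Simple doubly transitive groups of degree 2 mod 4 (statement S3402): shared definitions

The interfaces between the parts (owner: helper58):
* (A) `AbelianIndexTwo` (helper98): an abelian subgroup of index two in a Sylow 2-subgroup;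
* (B) small involution centralisers from the hypothesis on the fixed points (helper58);
* (D) the degree in each case (helper12): statements with `Act`, `StabHyp`, `Target`.
-/

set_option autoImplicit false

namespace Cfsg.Agent.TwoModFour

open MulAction

universe u v

/-- (A): a simple group whose Sylow 2-subgroup has an abelian subgroup of index two and an involution
outside it has abelian Sylow 2-subgroups or 2-rank at most two. -/
def AbelianIndexTwo : Prop :=
  ∀ (M : Type u) [Group M] [Finite M], IsSimpleGroup M → ¬ IsMulCommutative M →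
    ∀ (S : Sylow 2 M) (A : Subgroup M), A ≤ (S : Subgroup M) →
      (A.subgroupOf (S : Subgroup M)).index = 2 → IsMulCommutative A →
      ∀ x ∈ (S : Subgroup M), x ∉ A → x * x = 1 →
        IsMulCommutative (S : Subgroup M) ∨ Cfsg.PRankLE 2 2 M

/-- Some involution of each Sylow 2-subgroup has centraliser of order at most four in it. -/
def SmallCent (M : Type u) [Group M] : Prop :=
  ∀ S : Sylow 2 M, ∃ s ∈ (S : Subgroup M), orderOf s = 2 ∧
    Nat.card ↥((S : Subgroup M) ⊓ Subgroup.centralizer ({s} : Set M)) ≤ 4

section Action

variable (M : Type u) [Group M] (Ω : Type v) [MulAction M Ω]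

/-- The setting: a simple group acting faithfully and doubly transitively on `n ≡ 2 (mod 4)` points. -/
structure Act : Prop where
  simple : IsSimpleGroup M
  nonabelian : ¬ IsMulCommutative M
  faithful : FaithfulSMul M Ω
  two : IsMultiplyPretransitive M Ω 2
  mod_four : Nat.card Ω % 4 = 2
  two_lt : 2 < Nat.card Ω

/-- All involutions of `T` have the same fixed points. -/
def InvSameFix (T : Subgroup M) : Prop :=
  ∀ s ∈ T, ∀ t ∈ T, orderOf s = 2 → orderOf t = 2 → fixedBy Ω s = fixedBy Ω t

/-- What the hypothesis of the theorem leaves to the simple group: a Sylow 2-subgroup of a two-point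
stabiliser is abelian, or all its involutions have the same fixed points and the Sylow 2-subgroups of
`M` have a small involution centraliser. -/
def StabHyp (a b : Ω) : Prop :=
  ∀ T : Sylow 2 ↥(stabilizer M a ⊓ stabilizer M b),
    IsMulCommutative (T : Subgroup ↥(stabilizer M a ⊓ stabilizer M b)) ∨
      (SmallCent M ∧ InvSameFix M Ω ((T : Subgroup ↥(stabilizer M a ⊓ stabilizer M b)).map
        (stabilizer M a ⊓ stabilizer M b).subtype))

/-- The conclusion of the theorem. -/
def Target : Prop :=
  (Nat.card Ω = 6 ∧ Nonempty (M ≃* ↥(alternatingGroup (Fin 6)))) ∨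
    (∃ (F : Type) (_ : Field F) (_ : Fintype F), 4 ≤ Fintype.card F ∧
      Nat.card Ω = Fintype.card F + 1 ∧
      Nonempty (M ≃* Matrix.ProjectiveSpecialLinearGroup (Fin 2) F)) ∨
    (∃ (F : Type) (_ : Field F) (_ : Fintype F) (q : ℕ), Fintype.card F = q ^ 2 ∧ 2 < q ∧
      Nat.card Ω = q ^ 3 + 1 ∧ Nonempty (M ≃* Cfsg.PSU 3 F q))

end Action

end Cfsg.Agent.TwoModFour
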